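/-
Piece G9 of helper57's farm wave G (by helper8).
-/
import Cfsg.Agent.Lib.Helper51.OE.F1
import Cfsg.Agent.Lib.Helper57.OE.Base

set_option autoImplicit false

namespace Cfsg.Agent.Lib.Helper8.OE

open Cfsg Cfsg.Geo Matrix Cfsg.Agent.Lib.Helper13.Asch Cfsg.Agent.Lib.Helper90.Sp
open Cfsg.Agent.Lib.Helper51.OE
open scoped Kronecker MatrixGroups

variable {ι : Type} [Fintype ι] [DecidableEq ι] {F : Type*} [Field F] {Q : (ι → F) → F}

theorem plus_sup (hQ : IsNondegenerateQuadraticForm Q) {A B : Submodule F (ι → F)}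
    (hAB : B ≤ perp hQ A) (hdis : Disjoint A B) (hA : IsPlusTypeOn Q A) (hB : IsPlusTypeOn Q B) :
    IsPlusTypeOn Q (A ⊔ B) := by
  obtain ⟨UA, hUA, hA', hdA⟩ := hA
  obtain ⟨UB, hUB, hB', hdB⟩ := hB
  refine ⟨UA ⊔ UB, sup_le_sup hUA hUB,
    ts_sup hQ hA' hB' ((hUB.trans hAB).trans (perp_anti hQ hUA)), ?_⟩
  have h1 := Submodule.finrank_sup_add_finrank_inf_eq UA UB
  have h2 := Submodule.finrank_sup_add_finrank_inf_eq A B
  have h3 : UA ⊓ UB = ⊥ := (hdis.mono hUA hUB).eq_bot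
  rw [h3, finrank_bot] at h1
  rw [hdis.eq_bot, finrank_bot] at h2
  omega

end Cfsg.Agent.Lib.Helper8.OE
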